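import Groth.Agent.BlowSep.Basic
import Mathlib.AlgebraicGeometry.Morphisms.Separated
import Mathlib.AlgebraicGeometry.Morphisms.Proper
import Mathlib.CategoryTheory.Limits.Shapes.WidePullbacks

/-!
# Compactness and the boundary of wide fibre products
-/

universe u

set_option autoImplicit false

open CategoryTheory CategoryTheory.Limits AlgebraicGeometry TopologicalSpace
open Scheme (IdealSheafData)

namespace Groth.Agent.BlowSep

theorem exists_compact_cone {S : Scheme.{u}} : ∀ (m : ℕ) (X : Fin m → Scheme.{u}) (g : ∀ i, X i ⟶ S)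
    [∀ i, QuasiCompact (g i)],
    ∃ (Q : Scheme.{u}) (q : Q ⟶ S) (cs : ∀ i, Q ⟶ X i), QuasiCompact q ∧ (∀ i, cs i ≫ g i = q) ∧
      ∀ (T : Scheme.{u}) (b : T ⟶ S) (as : ∀ i, T ⟶ X i), (∀ i, as i ≫ g i = b) →
        ∃ l : T ⟶ Q, l ≫ q = b ∧ ∀ i, l ≫ cs i = as i
  | 0, X, g, _ => ⟨S, 𝟙 S, fun i => i.elim0, inferInstance, fun i => i.elim0,
      fun T b as _ => ⟨b, Category.comp_id b, fun i => i.elim0⟩⟩
  | m + 1, X, g, _ => by
    obtain ⟨Q, q, cs, hq, hcs, hu⟩ := exists_compact_cone m (fun i => X i.succ) (fun i => g i.succ)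
    refine ⟨pullback q (g 0), pullback.fst q (g 0) ≫ q,
      Fin.cases (pullback.snd q (g 0)) (fun i => pullback.fst q (g 0) ≫ cs i), inferInstance,
      fun i => ?_, fun T b as h => ?_⟩
    · induction i using Fin.cases with
      | zero => simp [pullback.condition]
      | succ i => simp [hcs i]
    · obtain ⟨l, hl, hli⟩ := hu T b (fun i => as i.succ) fun i => h i.succ
      refine ⟨pullback.lift l (as 0) (by rw [hl, h 0]), by rw [pullback.lift_fst_assoc, hl], fun i => ?_⟩
      induction i using Fin.cases with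
      | zero => exact pullback.lift_snd _ _ _
      | succ i => exact (pullback.lift_fst_assoc _ _ _ _).trans (hli i)

theorem compactSpace_widePullback {S : Scheme.{u}} [CompactSpace S] {m : ℕ} (X : Fin m → Scheme.{u})
    (g : ∀ i, X i ⟶ S) [∀ i, QuasiCompact (g i)] : CompactSpace ↥(widePullback S X g) := by
  obtain ⟨Q, q, cs, hq, hcs, hu⟩ := exists_compact_cone m X g
  haveI : CompactSpace Q := QuasiCompact.compactSpace_of_compactSpace q
  obtain ⟨l, hl, hli⟩ := hu _ (WidePullback.base g) (fun i => WidePullback.π g i)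
    fun i => WidePullback.π_arrow g i
  let r : Q ⟶ widePullback S X g := WidePullback.lift q cs hcs
  have h : l ≫ r = 𝟙 _ := by
    refine WidePullback.hom_ext _ _ _ (fun i => ?_) ?_
    · rw [Category.assoc, WidePullback.lift_π, hli i, Category.id_comp]
    · rw [Category.assoc, WidePullback.lift_base, hl, Category.id_comp]
  have hs : Function.Surjective r := fun x => ⟨l x, by rw [← Scheme.Hom.comp_apply, h]; rfl⟩
  exact hs.compactSpace r.continuous

theorem isClosedEmbedding_eq {T Xb S : Scheme.{u}} (g : Xb ⟶ S) [IsSeparated g] (a b : T ⟶ Xb)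
    (h : a ≫ g = b ≫ g) :
    ∃ (E : Scheme.{u}) (e : E ⟶ T), IsClosedImmersion e ∧ e ≫ a = e ≫ b ∧
      ∀ {U : Scheme.{u}} (u : U ⟶ T), u ≫ a = u ≫ b → ∃ v : U ⟶ E, v ≫ e = u := by
  let p := pullback.lift a b h
  refine ⟨pullback p (pullback.diagonal g), pullback.fst _ _, inferInstance, ?_, fun u hu => ?_⟩
  · have hc := pullback.condition (f := p) (g := pullback.diagonal g)
    have h1 := congrArg (· ≫ pullback.fst g g) hc
    have h2 := congrArg (· ≫ pullback.snd g g) hc
    simp only [Category.assoc, pullback.diagonal_fst, pullback.diagonal_snd, Category.comp_id, p,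
      pullback.lift_fst, pullback.lift_snd] at h1 h2
    rw [h1, h2]
  · refine ⟨pullback.lift u (u ≫ a) (pullback.hom_ext ?_ ?_), pullback.lift_fst _ _ _⟩
    · rw [Category.assoc, pullback.lift_fst, Category.assoc, pullback.diagonal_fst, Category.comp_id]
    · rw [Category.assoc, pullback.lift_snd, Category.assoc, pullback.diagonal_snd, Category.comp_id, hu]

variable {S X U : Scheme.{u}} {m : ℕ} (gX : X ⟶ S) {Xi Xb : Fin m → Scheme.{u}}
  (gb : ∀ i, Xb i ⟶ S) (o : ∀ i, Xi i ⟶ Xb i) (q : ∀ i, Xi i ⟶ X)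

/-- In the closure of `U` the boundaries of the compactifications have the same preimage. -/
theorem range_sync [∀ i, IsSeparated (gb i)] [∀ i, IsOpenImmersion (o i)] [∀ i, IsProper (q i)]
    (hq : ∀ i, q i ≫ gX = o i ≫ gb i) (jU : U ⟶ X) (v : ∀ i, U ⟶ Xi i) (hv : ∀ i, v i ≫ q i = jU)
    (w : ∀ i, (v i ≫ o i) ≫ gb i = jU ≫ gX) {x : ↥(widePullback S Xb gb)}
    (hx : x ∈ closure (Set.range (WidePullback.lift (jU ≫ gX) (fun i => v i ≫ o i) w)))
    (i j : Fin m) (hxi : WidePullback.π gb i x ∈ Set.range (o i)) :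
    WidePullback.π gb j x ∈ Set.range (o j) := by
  let P := widePullback S Xb gb
  let l := WidePullback.lift (jU ≫ gX) (fun i => v i ≫ o i) w
  let Ω : P.Opens := WidePullback.π gb i ⁻¹ᵁ (o i).opensRange
  have hΩ : Set.range (Ω.ι ≫ WidePullback.π gb i) ⊆ Set.range (o i) := by
    rintro _ ⟨a, rfl⟩
    exact a.2
  let a := IsOpenImmersion.lift (o i) (Ω.ι ≫ WidePullback.π gb i) hΩ
  have ha : a ≫ o i = Ω.ι ≫ WidePullback.π gb i := IsOpenImmersion.lift_fac _ _ hΩ
  let T := pullback (a ≫ q i) (q j)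
  obtain ⟨E, e, he, hee, hu⟩ := isClosedEmbedding_eq (gb j)
    (pullback.fst (a ≫ q i) (q j) ≫ Ω.ι ≫ WidePullback.π gb j)
    (pullback.snd (a ≫ q i) (q j) ≫ o j) (by
      rw [Category.assoc, Category.assoc, Category.assoc, ← hq j, ← pullback.condition_assoc,
        Category.assoc, hq i, ← Category.assoc a, ha, Category.assoc, WidePullback.π_arrow,
        WidePullback.π_arrow])
  let π := e ≫ pullback.fst (a ≫ q i) (q j)
  have hcl : IsClosed (Set.range π) := by
    haveI := he
    exact π.isClosedMap.isClosed_range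
  have hxΩ : x ∈ Ω := hxi
  have hsub : Set.range l ⊆ Ω.ι '' Set.range π := by
    rintro _ ⟨u, rfl⟩
    have hlΩ : Set.range l ⊆ Set.range Ω.ι := by
      rintro _ ⟨u, rfl⟩
      rw [Scheme.Opens.range_ι]
      refine ⟨v i u, ?_⟩
      rw [← Scheme.Hom.comp_apply, ← Scheme.Hom.comp_apply, WidePullback.lift_π]
    let l' := IsOpenImmersion.lift Ω.ι l hlΩ
    have hl' : l' ≫ Ω.ι = l := IsOpenImmersion.lift_fac _ _ hlΩ
    have hla : l' ≫ a = v i := by
      rw [← cancel_mono (o i), Category.assoc, ha, ← Category.assoc, hl', WidePullback.lift_π]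
    obtain ⟨r, hr⟩ := hu (pullback.lift l' (v j) (by rw [← Category.assoc, hla, hv i, hv j])) (by
      rw [pullback.lift_fst_assoc, pullback.lift_snd_assoc, ← Category.assoc, hl', WidePullback.lift_π])
    refine ⟨π (r u), ⟨r u, rfl⟩, ?_⟩
    rw [← Scheme.Hom.comp_apply, ← Scheme.Hom.comp_apply]
    simp only [π, Category.assoc]
    rw [← Category.assoc r, hr, pullback.lift_fst_assoc, hl']
  have hmem : (⟨x, hxΩ⟩ : Ω) ∈ Set.range π := by
    have h1 : x ∈ closure (Ω.ι '' Set.range π) := closure_mono hsub hx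
    have h2 : (⟨x, hxΩ⟩ : Ω) ∈ closure (Set.range π) :=
      (Ω.ι.isOpenEmbedding.isInducing.closure_eq_preimage_closure_image (Set.range π)).ge h1
    rwa [hcl.closure_eq] at h2
  obtain ⟨ε, hε⟩ := hmem
  refine ⟨pullback.snd (a ≫ q i) (q j) (e ε), ?_⟩
  rw [← Scheme.Hom.comp_apply, ← Scheme.Hom.comp_apply, ← hee, Scheme.Hom.comp_apply,
    Scheme.Hom.comp_apply, Scheme.Hom.comp_apply]
  exact congrArg (fun t => WidePullback.π gb j (Ω.ι t)) hε

/-- The complement of the zero locus of an ideal of finite type is quasi-compact. -/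
theorem isCompact_compl_support [CompactSpace X] (I : X.IdealSheafData)
    (hI : BlowUp.IsFiniteTypeIdeal I) : IsCompact (I.support : Set X)ᶜ := by
  obtain ⟨s, hs, hcov⟩ := isCompact_iff_finite_and_eq_biUnion_affineOpens.1
    (show IsCompact ((⊤ : X.Opens) : Set X) from isCompact_univ)
  choose gens hgens using fun U : X.affineOpens => hI U
  have : (I.support : Set X)ᶜ = ⋃ U ∈ s, ⋃ f ∈ (gens U : Set Γ(X, U.1)), (X.basicOpen f : Set X) := by
    ext x
    simp only [Set.mem_compl_iff, Set.mem_iUnion, SetLike.mem_coe, exists_prop]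
    constructor
    · intro hx
      have hx' : x ∈ (⊤ : X.Opens) := trivial
      rw [hcov] at hx'
      obtain ⟨U, hx'⟩ := Opens.mem_iSup.1 hx'
      obtain ⟨hU, hxU⟩ := Opens.mem_iSup.1 hx'
      refine ⟨U, hU, ?_⟩
      by_contra hne
      push Not at hne
      refine hx ((mem_support_iff_le_prime I hxU).2 ?_)
      rw [← hgens U, Ideal.span_le]
      exact fun f hf => (prime_iff U.2 hxU f).2 (hne f hf)
    · rintro ⟨U, _, f, hf, hxf⟩ hx
      exact (mem_support_iff_notMem I (U := U) (X.basicOpen_le f hxf)).1 hx f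
        (hgens U ▸ Ideal.subset_span hf) hxf
  rw [this]
  exact hs.isCompact_biUnion fun U _ => (gens U).finite_toSet.isCompact_biUnion fun f _ =>
    (U.2.basicOpen f).isCompact

theorem isFiniteTypeIdeal_pow {I : X.IdealSheafData} (hI : BlowUp.IsFiniteTypeIdeal I) (n : ℕ) :
    BlowUp.IsFiniteTypeIdeal (I ^ n) := fun U => by
  rw [IdealSheafData.ideal_pow, Pi.pow_apply]
  exact Submodule.FG.pow (hI U) n

end Groth.Agent.BlowSep
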