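import Groth.Agent.MorLib.IdealFG2
import Groth.Agent.ModPairLib.BlowUp
import Groth.Agent.ModPairLib.Limit
import Groth.Prelude.Def_BlowUp2

/-!
# Separating closed subsets by blowing up
-/

universe u

set_option autoImplicit false

open CategoryTheory AlgebraicGeometry TopologicalSpace
open Scheme (IdealSheafData)

namespace Groth.Agent.BlowSep

variable {X Y : Scheme.{u}}

theorem prime_iff {U : X.Opens} (hU : IsAffineOpen U) {x : X} (hx : x ∈ U) (g : Γ(X, U)) :
    g ∈ (hU.primeIdealOf ⟨x, hx⟩).asIdeal ↔ x ∉ X.basicOpen g := by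
  have h : hU.primeIdealOf ⟨x, hx⟩ ∈ hU.fromSpec ⁻¹ᵁ X.basicOpen g ↔ x ∈ X.basicOpen g := by
    show hU.fromSpec (hU.primeIdealOf ⟨x, hx⟩) ∈ X.basicOpen g ↔ _
    rw [hU.fromSpec_primeIdealOf ⟨x, hx⟩]
  rw [hU.fromSpec_preimage_basicOpen] at h
  rw [← h]
  exact not_not.symm

theorem mem_support_iff_notMem (I : X.IdealSheafData) {U : X.affineOpens} {x : X} (hx : x ∈ U.1) :
    x ∈ (I.support : Set X) ↔ ∀ f ∈ I.ideal U, x ∉ X.basicOpen f := by
  rw [SetLike.mem_coe, I.mem_support_iff_of_mem hx, Scheme.mem_zeroLocus_iff]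
  rfl

theorem mem_support_iff_le_prime (I : X.IdealSheafData) {U : X.affineOpens} {x : X} (hx : x ∈ U.1) :
    x ∈ (I.support : Set X) ↔ I.ideal U ≤ (U.2.primeIdealOf ⟨x, hx⟩).asIdeal := by
  rw [mem_support_iff_notMem I hx]
  exact forall₂_congr fun f _ => (prime_iff U.2 hx f).symm

theorem support_congr {I J : X.IdealSheafData} {U : X.affineOpens} (h : I.ideal U = J.ideal U)
    {x : X} (hx : x ∈ U.1) : x ∈ (I.support : Set X) ↔ x ∈ (J.support : Set X) := by
  rw [mem_support_iff_notMem I hx, mem_support_iff_notMem J hx, h]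

theorem ideal_eq_top {I : X.IdealSheafData} {U : X.affineOpens}
    (h : ∀ x ∈ U.1, x ∉ (I.support : Set X)) : I.ideal U = ⊤ := by
  by_contra hne
  obtain ⟨m, hm, hIm⟩ := Ideal.exists_le_maximal _ hne
  let q : PrimeSpectrum Γ(X, U.1) := ⟨m, hm.isPrime⟩
  have hq : U.2.fromSpec q ∈ U.1 := U.2.range_fromSpec.le ⟨q, rfl⟩
  refine h _ hq ((mem_support_iff_le_prime I hq).2 ?_)
  have : U.2.primeIdealOf ⟨U.2.fromSpec q, hq⟩ = q :=
    U.2.fromSpec.isOpenEmbedding.injective (U.2.fromSpec_primeIdealOf ⟨_, hq⟩)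
  rw [this]
  exact hIm

/-- If an effective Cartier ideal is a finite sum of ideals, near each point it equals one of them. -/
theorem exists_eq_of_iSup_isEffCartier {ι : Type*} [Finite ι] (P : ι → X.IdealSheafData)
    (h : BlowUp.IsEffCartierIdeal (⨆ i, P i)) (x : X) :
    ∃ (i : ι) (W : X.affineOpens), x ∈ W.1 ∧ (P i).ideal W = (⨆ j, P j).ideal W := by
  obtain ⟨U, hxU, t, ht0, ht⟩ := h x
  have hP : ∀ i, (P i).ideal U ≤ Ideal.span {t} := fun i =>
    ht ▸ (le_iSup P i : P i ≤ _) U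
  let A : ι → Ideal Γ(X, U.1) := fun i =>
    Submodule.comap (LinearMap.toSpanSingleton Γ(X, U.1) Γ(X, U.1) t) ((P i).ideal U)
  have hA : ∀ i, (P i).ideal U ≤ A i * Ideal.span {t} := fun i f hf => by
    obtain ⟨a, rfl⟩ := Ideal.mem_span_singleton'.1 (hP i hf)
    exact Ideal.mul_mem_mul (show a ∈ A i by simpa [A] using hf) (Ideal.mem_span_singleton_self t)
  have ht' : t ∈ (⨆ i, A i) * Ideal.span {t} := by
    have h1 : t ∈ (⨆ j, P j).ideal U := ht ▸ Ideal.mem_span_singleton_self t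
    rw [IdealSheafData.ideal_iSup, iSup_apply] at h1
    exact (iSup_le fun i => (hA i).trans (Ideal.mul_mono_left (le_iSup A i))) h1
  obtain ⟨w, hw, hwt⟩ := Ideal.mem_mul_span_singleton.1 ht'
  have hw1 : w = 1 := sub_eq_zero.1
    (mem_nonZeroDivisors_iff_right.1 ht0 _ (by rw [sub_mul, hwt, one_mul, sub_self]))
  obtain ⟨i, a, haA, hxa⟩ : ∃ i, ∃ a ∈ A i, x ∈ X.basicOpen a := by
    by_contra hne
    push Not at hne
    have hle : ⨆ i, A i ≤ (U.2.primeIdealOf ⟨x, hxU⟩).asIdeal :=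
      iSup_le fun i a ha => (prime_iff U.2 hxU a).2 (hne i a ha)
    exact (U.2.primeIdealOf ⟨x, hxU⟩).isPrime.ne_top ((Ideal.eq_top_iff_one _).2 (hw1 ▸ hle hw))
  refine ⟨i, ⟨X.basicOpen a, U.2.basicOpen a⟩, hxa, le_antisymm ((le_iSup P i : P i ≤ _) _) ?_⟩
  rw [← (⨆ j, P j).map_ideal (U := ⟨X.basicOpen a, U.2.basicOpen a⟩) (V := U) (X.basicOpen_le a),
    ← (P i).map_ideal (U := ⟨X.basicOpen a, U.2.basicOpen a⟩) (V := U) (X.basicOpen_le a), ht,
    Ideal.map_span, Set.image_singleton, Ideal.span_singleton_le_iff_mem]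
  have hu := RingedSpace.isUnit_res_basicOpen X.toRingedSpace a
  have hat : a * t ∈ (P i).ideal U := by simpa [A] using haA
  have h2 := Ideal.mem_map_of_mem (X.presheaf.map (homOfLE (X.basicOpen_le a)).op).hom hat
  rw [map_mul] at h2
  exact (Ideal.unit_mul_mem_iff_mem _ hu).1 h2

/-- Two-term version. -/
theorem exists_eq_of_sup_isEffCartier (P Q : X.IdealSheafData)
    (h : BlowUp.IsEffCartierIdeal (P ⊔ Q)) (x : X) :
    ∃ W : X.affineOpens, x ∈ W.1 ∧ (P.ideal W = (P ⊔ Q).ideal W ∨ Q.ideal W = (P ⊔ Q).ideal W) := by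
  have e : (⨆ b : Bool, cond b P Q) = P ⊔ Q := iSup_bool_eq
  obtain ⟨b, W, hxW, hW⟩ := exists_eq_of_iSup_isEffCartier (fun b : Bool => cond b P Q) (e.symm ▸ h) x
  rw [e] at hW
  exact ⟨W, hxW, by cases b <;> simp_all⟩

/-- If `P` dies on `Y` while `E` stays effective Cartier, then `P` differs from `E` near the image. -/
theorem ne_of_comap_eq_bot (k : Y ⟶ X) {P E : X.IdealSheafData}
    (hE : BlowUp.IsEffCartierIdeal (E.comap k)) (hP : P.comap k = ⊥) (W : X.affineOpens) {y : Y}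
    (hy : k y ∈ W.1) : P.ideal W ≠ E.ideal W := by
  intro hW
  obtain ⟨U, hyU, t, -, ht⟩ := hE y
  obtain ⟨r, hr, hyr⟩ := U.2.exists_basicOpen_le (V := k ⁻¹ᵁ W.1) ⟨y, hy⟩ hyU
  let D : Y.affineOpens := ⟨Y.basicOpen r, U.2.basicOpen r⟩
  have h1 : (E.comap k).ideal D =
      Ideal.span {(Y.presheaf.map (homOfLE (Y.basicOpen_le r)).op).hom t} := by
    rw [← (E.comap k).map_ideal (U := D) (V := U) (Y.basicOpen_le r), ht, Ideal.map_span,
      Set.image_singleton]
    rfl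
  have h2 : (E.comap k).ideal D = ⊥ := by
    rw [ModPairLib.ideal_comap E k W D hr, ← hW, ← ModPairLib.ideal_comap P k W D hr, hP]
    rfl
  have h0 := ModPairLib.generator_mem_nonZeroDivisors hE h1
  rw [h2, eq_comm, Ideal.span_singleton_eq_bot] at h1
  rw [h1] at h0
  haveI : Nonempty (D.1 : Scheme.{u}) := ⟨⟨y, hyr⟩⟩
  exact nonZeroDivisors.ne_zero h0 rfl

/-- A closed subscheme's ideal dies on it. -/
theorem comap_subschemeι_self (I : X.IdealSheafData) : I.comap I.subschemeι = ⊥ := by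
  rw [eq_bot_iff, ← IdealSheafData.le_map_iff_comap_le, IdealSheafData.map_bot,
    IdealSheafData.ker_subschemeι]

/-- The separation criterion: `E` is locally principal, contains `P`, is trivial on the sets `F`
and `G`, `F` lies in the zero locus of `P`, and on `G` (the zero locus of some `K`) the ideal `E`
comes from `P` near `z`. Then `z` cannot be in the closure of `G` over the closure of `F`. -/
theorem notMem_closure {Z : Scheme.{u}} (h : Z ⟶ X) (P E : X.IdealSheafData)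
    (hE : BlowUp.IsEffCartierIdeal E) (hP : P ≤ E) (K : Z.IdealSheafData)
    (F : Set X) (G : Set Z) (hF : F ⊆ P.support) (hFE : Disjoint F (E.support : Set X))
    (hGE : ∀ g ∈ G, h g ∉ (E.support : Set X)) (hK : G ⊆ K.support)
    (O : Z.Opens) (hle : (E.comap h).comap O.ι ≤ ((P.comap h) ⊔ K).comap O.ι)
    {z : Z} (hzO : z ∈ O) (hzF : h z ∈ closure F) : z ∉ closure G := by
  intro hzG
  obtain ⟨W, hxW, t, -, ht⟩ := hE (h z)
  obtain ⟨W', hW', hzW', hsub⟩ := exists_isAffineOpen_mem_and_subset (x := z)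
    (U := O ⊓ h ⁻¹ᵁ W.1) ⟨hzO, hxW⟩
  have hW'O : W' ≤ O := fun a ha => (hsub ha).1
  have e : W' ≤ h ⁻¹ᵁ W.1 := fun a ha => (hsub ha).2
  set φ := (h.appLE W.1 W' e).hom with hφ
  let C : Ideal Γ(X, W.1) := Submodule.comap (LinearMap.toSpanSingleton Γ(X, W.1) Γ(X, W.1) t) (P.ideal W)
  have hPC : P.ideal W ≤ C * Ideal.span {t} := fun f hf => by
    obtain ⟨a, rfl⟩ := Ideal.mem_span_singleton'.1 (ht ▸ hP W hf)
    exact Ideal.mul_mem_mul (show a ∈ C by simpa [C] using hf) (Ideal.mem_span_singleton_self t)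
  -- the colon ideal vanishes at the image point
  have hC : ∀ c ∈ C, h z ∉ X.basicOpen c := fun c hc hzc => by
    obtain ⟨w, hwc, hwF⟩ := mem_closure_iff.1 hzF _ (X.basicOpen c).isOpen hzc
    have hwW : w ∈ W.1 := X.basicOpen_le c hwc
    have hwt : w ∈ X.basicOpen t := by
      by_contra hne
      refine Set.disjoint_left.1 hFE hwF ((mem_support_iff_notMem E hwW).2 fun f hf => ?_)
      obtain ⟨a, rfl⟩ := Ideal.mem_span_singleton'.1 (ht ▸ hf)
      rw [Scheme.basicOpen_mul]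
      exact fun hw => hne hw.2
    refine (mem_support_iff_notMem P hwW).1 (hF hwF) (c * t) (by simpa [C] using hc) ?_
    rw [Scheme.basicOpen_mul]
    exact ⟨hwc, hwt⟩
  -- the generator is congruent to a multiple of itself
  have h1 : φ t ∈ C.map φ * Ideal.span {φ t} ⊔ K.ideal ⟨W', hW'⟩ := by
    have h2 : φ t ∈ (E.comap h).ideal ⟨W', hW'⟩ := by
      rw [ModPairLib.ideal_comap E h W ⟨W', hW'⟩ e, ht]
      exact Ideal.mem_map_of_mem φ (Ideal.mem_span_singleton_self t)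
    have h3 := MorLib.IdealFG.le_of_comap_le hle (U := ⟨W', hW'⟩) hW'O h2
    rw [IdealSheafData.ideal_sup, Pi.sup_apply, ModPairLib.ideal_comap P h W ⟨W', hW'⟩ e] at h3
    have hle' : (P.ideal W).map φ ≤ C.map φ * Ideal.span {φ t} := by
      refine (Ideal.map_mono hPC).trans ?_
      rw [Ideal.map_mul, Ideal.map_span, Set.image_singleton]
    exact (sup_le_sup_right hle' (K.ideal ⟨W', hW'⟩) : _ ≤ C.map φ * Ideal.span {φ t} ⊔ _) h3
  obtain ⟨u, hu, k, hk, huk⟩ := Submodule.mem_sup.1 h1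
  obtain ⟨c, hc, rfl⟩ := Ideal.mem_mul_span_singleton.1 hu
  have hcz : c ∈ (hW'.primeIdealOf ⟨z, hzW'⟩).asIdeal := by
    refine (Ideal.map_le_iff_le_comap.2 fun a ha => ?_ : C.map φ ≤ _) hc
    rw [Ideal.mem_comap, prime_iff hW' hzW']
    show z ∉ Z.basicOpen ((h.appLE W.1 W' e).hom a)
    rw [Scheme.basicOpen_appLE]
    exact fun hh => hC a ha hh.2
  have hd : z ∈ Z.basicOpen (1 - c) := by
    by_contra hne
    have := add_mem ((prime_iff hW' hzW' _).2 hne) hcz
    rw [sub_add_cancel] at this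
    exact (hW'.primeIdealOf ⟨z, hzW'⟩).isPrime.ne_top ((Ideal.eq_top_iff_one _).2 this)
  obtain ⟨g, hgd, hgG⟩ := mem_closure_iff.1 hzG _ (Z.basicOpen (1 - c)).isOpen hd
  have hgW' : g ∈ W' := Z.basicOpen_le _ hgd
  refine (mem_support_iff_notMem K (U := ⟨W', hW'⟩) hgW').1 (hK hgG) k hk ?_
  have hk' : k = (1 - c) * φ t := by rw [sub_mul, one_mul]; exact eq_sub_of_add_eq' huk
  rw [hk', Scheme.basicOpen_mul]
  refine ⟨hgd, ?_⟩
  show g ∈ Z.basicOpen ((h.appLE W.1 W' e).hom t)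
  rw [Scheme.basicOpen_appLE]
  refine ⟨hgW', ?_⟩
  by_contra hne
  refine hGE g hgG ((mem_support_iff_notMem E (U := W) (e hgW')).2 fun f hf => ?_)
  obtain ⟨a, rfl⟩ := Ideal.mem_span_singleton'.1 (ht ▸ hf)
  rw [Scheme.basicOpen_mul]
  exact fun hw => hne hw.2

/-- A subideal of finite type which is trivial on a given quasi-compact open. -/
theorem exists_ft_le [CompactSpace X] [QuasiSeparatedSpace X] (J : X.IdealSheafData) (O : X.Opens)
    (hO : IsCompact (O : Set X)) (hJ : Disjoint (J.support : Set X) (O : Set X)) :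
    ∃ I : X.IdealSheafData, I ≤ J ∧ BlowUp.IsAdmissibleFor O I := by
  classical
  obtain ⟨s, hs, hOs⟩ := isCompact_iff_finite_and_eq_biUnion_affineOpens.1 hO
  have key : ∀ t : Finset X.affineOpens, (∀ U ∈ t, U.1 ≤ O) →
      ∃ I : X.IdealSheafData, I ≤ J ∧ MorLib.IdealFG.IsFG I ∧ ∀ U ∈ t, I.ideal U = ⊤ := by
    intro t
    induction t using Finset.induction_on with
    | empty => exact fun _ => ⟨⊥, bot_le, MorLib.IdealFG.isFG_bot, by simp⟩
    | insert U t _ ih =>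
      intro ht
      obtain ⟨I, hI, hIfg, hIt⟩ := ih fun V hV => ht V (Finset.mem_insert_of_mem hV)
      have hJU : J.ideal U = ⊤ := ideal_eq_top fun x hx hxJ =>
        Set.disjoint_left.1 hJ hxJ (ht U (Finset.mem_insert_self _ _) hx)
      obtain ⟨K, hK, hKfg, hKU⟩ := MorLib.IdealFG.exists_fg_le J U ⊤ ⟨{1}, by simp⟩ hJU.ge
      refine ⟨I ⊔ K, sup_le hI hK, MorLib.IdealFG.isFG_sup hIfg hKfg, fun V hV => ?_⟩
      rw [IdealSheafData.ideal_sup, Pi.sup_apply]
      rcases Finset.mem_insert.1 hV with rfl | hV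
      · rw [top_le_iff.1 hKU, sup_top_eq]
      · rw [hIt V hV, top_sup_eq]
  have hle : ∀ U ∈ hs.toFinset, U.1 ≤ O := fun U hU => by
    rw [hOs]
    exact le_iSup₂ (f := fun (U : X.affineOpens) (_ : U ∈ s) => U.1) U (hs.mem_toFinset.1 hU)
  obtain ⟨I, hI, hIfg, hIs⟩ := key hs.toFinset hle
  refine ⟨I, hI, hIfg, Set.disjoint_left.2 fun x hxI hxO => ?_⟩
  rw [hOs] at hxO
  obtain ⟨U, hx⟩ := Opens.mem_iSup.1 hxO
  obtain ⟨hU, hxU⟩ := Opens.mem_iSup.1 hx
  refine (mem_support_iff_notMem I (U := U) hxU).1 hxI 1 ?_ ?_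
  · rw [hIs U (hs.mem_toFinset.2 hU)]; trivial
  · rw [Scheme.basicOpen_of_isUnit _ isUnit_one]; exact hxU

/-- A closed set with quasi-compact complement is the zero locus of an ideal of finite type. -/
theorem exists_ft_support_eq [CompactSpace X] [QuasiSeparatedSpace X] (Z : Set X) (hZ : IsClosed Z)
    (hZc : IsCompact Zᶜ) :
    ∃ I : X.IdealSheafData, BlowUp.IsFiniteTypeIdeal I ∧ (I.support : Set X) = Z := by
  let J := IdealSheafData.vanishingIdeal (⟨Z, hZ⟩ : Closeds X)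
  have hJ : (J.support : Set X) = Z := by simp [J]
  obtain ⟨I, hIJ, hI⟩ := exists_ft_le J ⟨Zᶜ, hZ.isOpen_compl⟩ hZc
    (by rw [hJ]; exact disjoint_compl_right)
  refine ⟨I, hI.1, subset_antisymm (fun x hx => ?_) (hJ.symm.subset.trans
    (IdealSheafData.support_antitone hIJ))⟩
  by_contra hne
  exact Set.disjoint_left.1 hI.2 hx hne

theorem isFiniteTypeIdeal_sup {I J : X.IdealSheafData} (hI : BlowUp.IsFiniteTypeIdeal I)
    (hJ : BlowUp.IsFiniteTypeIdeal J) : BlowUp.IsFiniteTypeIdeal (I ⊔ J) :=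
  MorLib.IdealFG.isFG_sup hI hJ

end Groth.Agent.BlowSep
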