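import Groth.Agent.CartierFP.Scheme
import Groth.Agent.BlowSep.Wide
import Groth.Agent.MorLib.IdealFG2
import Groth.Agent.ModPairLib.Coprod
import Groth.Agent.FComplLib.IdealComap

/-!
# Ideals on a blow-up, twisted by the exceptional divisor, come from the base
-/

universe u

set_option autoImplicit false

open CategoryTheory AlgebraicGeometry TopologicalSpace
open Scheme (IdealSheafData)
open Groth.Agent.BlowUpLib

namespace Groth.Agent.BlowSep.Compose

variable {X X' : Scheme.{u}}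

theorem exists_frac {A : Type u} [CommRing A] {I : Ideal A} (a : I)
    (q : BlowUp.affineAlgebra A I (a : A)) :
    ∃ (n : ℕ) (x : A), x ∈ I ^ n ∧ q * algebraMap A (BlowUp.affineAlgebra A I (a : A)) (a : A) ^ n =
      algebraMap A _ x := by
  let α := algebraMap A (BlowUp.affineAlgebra A I (a : A))
  obtain ⟨q, hq⟩ := q
  change q ∈ Algebra.adjoin _ _ at hq
  induction hq using Algebra.adjoin_induction with
  | mem q hq =>
    obtain ⟨x, hx, rfl⟩ := hq
    refine ⟨1, x, by rwa [pow_one], ?_⟩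
    rw [pow_one]
    exact frac_mul I ⟨x, hx⟩ a
  | algebraMap r => exact ⟨0, r, by simp, by rw [pow_zero, mul_one]; rfl⟩
  | add p q hp hq ihp ihq =>
    obtain ⟨n, x, hx, e⟩ := ihp
    obtain ⟨m, y, hy, e'⟩ := ihq
    refine ⟨n + m, x * (a : A) ^ m + (a : A) ^ n * y, ?_, ?_⟩
    · rw [pow_add]
      exact (I ^ n * I ^ m).add_mem (Ideal.mul_mem_mul hx (Ideal.pow_mem_pow a.2 m))
        (Ideal.mul_mem_mul (Ideal.pow_mem_pow a.2 n) hy)
    · rw [map_add, map_mul, map_mul, map_pow, map_pow, ← e, ← e']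
      show ((⟨p, hp⟩ : BlowUp.affineAlgebra A I (a : A)) + ⟨q, hq⟩) * α a ^ (n + m) = _
      ring
  | mul p q hp hq ihp ihq =>
    obtain ⟨n, x, hx, e⟩ := ihp
    obtain ⟨m, y, hy, e'⟩ := ihq
    refine ⟨n + m, x * y, by rw [pow_add]; exact Ideal.mul_mem_mul hx hy, ?_⟩
    rw [map_mul, ← e, ← e']
    show ((⟨p, hp⟩ : BlowUp.affineAlgebra A I (a : A)) * ⟨q, hq⟩) * α a ^ (n + m) = _
    ring

/-- Membership in a pushed forward ideal is local upstairs. -/
theorem mem_map_ideal (b : X' ⟶ X) [QuasiCompact b] (P : X'.IdealSheafData) (W : X.affineOpens)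
    (y : Γ(X, W.1))
    (h : ∀ p : X', b p ∈ W.1 → ∃ (V : X'.affineOpens) (e : V.1 ≤ b ⁻¹ᵁ W.1), p ∈ V.1 ∧
      (b.appLE W.1 V.1 e).hom y ∈ P.ideal V) :
    y ∈ (P.map b).ideal W := by
  rw [IdealSheafData.map, Scheme.Hom.ker_apply, RingHom.mem_ker]
  refine P.subscheme.IsSheaf.section_ext fun p hp => ?_
  obtain ⟨V, e, hpV, hy⟩ := h (P.subschemeι p) hp
  refine ⟨P.subschemeι ⁻¹ᵁ V.1, fun z hz => e hz, hpV, ?_⟩
  rw [map_zero]
  rw [← IdealSheafData.ker_subschemeι P, Scheme.Hom.ker_apply, RingHom.mem_ker] at hy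
  rw [← hy]
  simp only [← CommRingCat.comp_apply, Scheme.Hom.comp_app, Category.assoc]
  rw [Scheme.Hom.appLE, Category.assoc, Scheme.Hom.naturality]
  rfl

variable (b : X' ⟶ X) (I : X.IdealSheafData) (J : X'.IdealSheafData)

/-- On a chart, sections of an ideal times a high power of the exceptional divisor come from the base. -/
theorem chart_gen (hb : BlowUp.IsBlowUp b I) [QuasiCompact b] (W : X.affineOpens) (a : Γ(X, W.1))
    (ha : a ∈ I.ideal W)
    (c : Spec (CommRingCat.of (BlowUp.affineAlgebra Γ(X, W.1) (I.ideal W) a)) ⟶ X') [IsOpenImmersion c]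
    (hc : c ≫ b = Spec.map (CommRingCat.ofHom
        (algebraMap Γ(X, W.1) (BlowUp.affineAlgebra Γ(X, W.1) (I.ideal W) a))) ≫ W.2.fromSpec)
    (Jc : Ideal (BlowUp.affineAlgebra Γ(X, W.1) (I.ideal W) a)) (hJc : J.comap c = centre Jc)
    (g : BlowUp.affineAlgebra Γ(X, W.1) (I.ideal W) a) (hg : g ∈ Jc) :
    ∃ n : ℕ, ∀ N, n ≤ N → ∃ y ∈ ((J * I.comap b ^ N).map b).ideal W,
      algebraMap Γ(X, W.1) (BlowUp.affineAlgebra Γ(X, W.1) (I.ideal W) a) y =
        g * algebraMap Γ(X, W.1) (BlowUp.affineAlgebra Γ(X, W.1) (I.ideal W) a) a ^ N := by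
  classical
  obtain ⟨n, x, hx, hgx⟩ := exists_frac (⟨a, ha⟩ : I.ideal W) g
  have hE := hb.1
  have key : ∀ p : X', b p ∈ W.1 → ∃ (V : X'.affineOpens) (e : V.1 ≤ b ⁻¹ᵁ W.1) (m : ℕ), p ∈ V.1 ∧
      ∀ N, n + m ≤ N → (b.appLE W.1 V.1 e).hom (x * a ^ (N - n)) ∈ (J * I.comap b ^ N).ideal V := by
    intro p hp
    obtain ⟨V, e, hpV, c₀, hc₀, hV⟩ := ModPairLib.exists_chart_blowUp hE p W hp
    let φ := (b.appLE W.1 V.1 e).hom
    have hφI : (I.ideal W).map φ = Ideal.span {φ c₀} := by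
      rw [← hV, ModPairLib.ideal_comap I b W V e]
    obtain ⟨t, ht⟩ := Ideal.mem_span_singleton'.1 (hφI.le (Ideal.mem_map_of_mem φ ha))
    have hxn : φ x ∈ Ideal.span {φ c₀ ^ n} := by
      rw [← Ideal.span_singleton_pow, ← hφI, ← Ideal.map_pow]
      exact Ideal.mem_map_of_mem φ hx
    obtain ⟨z, hz⟩ := Ideal.mem_span_singleton'.1 hxn
    let D : X'.affineOpens := ⟨X'.basicOpen t, V.2.basicOpen t⟩
    have hDV : D.1 ≤ V.1 := X'.basicOpen_le t
    let ρ := (X'.presheaf.map (homOfLE hDV).op).hom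
    have eD : D.1 ≤ b ⁻¹ᵁ W.1 := hDV.trans e
    let φ' := (b.appLE W.1 D.1 eD).hom
    have hφ' : φ' = ρ.comp φ := by
      simp only [φ', φ, ρ, ← CommRingCat.hom_comp, Scheme.Hom.appLE_map]
    have htu : IsUnit (ρ t) := RingedSpace.isUnit_res_basicOpen _ t
    have hD : (I.comap b).ideal D = Ideal.span {φ' a} := by
      rw [← (I.comap b).map_ideal (U := D) (V := V) hDV, hV, Ideal.map_span, Set.image_singleton]
      show Ideal.span {ρ (φ c₀)} = _
      rw [hφ', RingHom.comp_apply, ← ht, map_mul, Ideal.span_singleton_mul_left_unit htu]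
    have hnzd : φ' a ∈ nonZeroDivisors Γ(X', D.1) := ModPairLib.generator_mem_nonZeroDivisors hE hD
    obtain ⟨ψ, hψ⟩ := exists_hom_affineAlgebra (I.ideal W) ⟨a, ha⟩ φ' hnzd
      (by rw [← ModPairLib.ideal_comap I b W D eD, hD])
    have hψc : Spec.map (CommRingCat.ofHom ψ) ≫ c = D.2.fromSpec := by
      refine isBlowUp_hom_ext hb ?_ ?_
      · rw [Category.assoc, hc, ← Spec.map_comp_assoc, ← CommRingCat.ofHom_comp, hψ]
        exact IsAffineOpen.SpecMap_appLE_fromSpec b W.2 D.2 eD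
      · rw [IdealSheafData.comap_comp]
        haveI := D.2.isOpenImmersion_fromSpec
        exact isEffCartier_comap_flat D.2.fromSpec hE
    have hψg : ψ g ∈ J.ideal D := by
      have h1 : centre (Jc.map ψ) = centre (J.ideal D) := by
        rw [← ExcSmooth.comap_centre, ← hJc, ← IdealSheafData.comap_comp, hψc, comap_fromSpec]
      have h2 := congrArg (fun K => IdealSheafData.ideal K ⟨⊤, isAffineOpen_top _⟩) h1
      simp only [centre_top] at h2
      obtain ⟨w, hw, e'⟩ := (Ideal.mem_map_iff_of_surjective _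
        (ConcreteCategory.bijective_of_isIso (Scheme.ΓSpecIso (CommRingCat.of Γ(X', D.1))).inv).2).1
          (h2.le (Ideal.mem_map_of_mem _ (Ideal.mem_map_of_mem ψ hg)))
      rwa [(ConcreteCategory.bijective_of_isIso
        (Scheme.ΓSpecIso (CommRingCat.of Γ(X', D.1))).inv).1 e'] at hw
    have hρz : ρ z ∈ J.ideal D := by
      have h1 : φ' x = ψ g * φ' a ^ n := by
        rw [← hψ, RingHom.comp_apply, RingHom.comp_apply, ← map_pow, ← map_mul]
        exact congrArg ψ hgx.symm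
      have h2 : (ρ z - ψ g * ρ t ^ n) * ρ (φ c₀) ^ n = 0 := by
        rw [sub_mul, sub_eq_zero, mul_assoc, ← mul_pow, ← map_mul ρ t, ht, ← map_pow ρ (φ c₀),
          ← map_mul ρ z, hz, ← RingHom.comp_apply ρ φ, ← RingHom.comp_apply ρ φ, ← hφ']
        exact h1
      have h3 : ρ (φ c₀) ∈ nonZeroDivisors Γ(X', D.1) := by
        have : φ' a = ρ t * ρ (φ c₀) := by rw [hφ', RingHom.comp_apply, ← ht, map_mul]
        rw [this] at hnzd
        exact (mul_mem_nonZeroDivisors.1 hnzd).2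
      rw [sub_eq_zero.1 (mem_nonZeroDivisors_iff_right.1 (pow_mem h3 n) _ h2)]
      exact Ideal.mul_mem_right _ _ hψg
    haveI := V.2.isLocalization_basicOpen t
    rw [← J.map_ideal (U := D) (V := V) hDV] at hρz
    obtain ⟨_, ⟨m, rfl⟩, hm⟩ := (IsLocalization.algebraMap_mem_map_algebraMap_iff
      (Submonoid.powers t) Γ(X', D.1) (J.ideal V) z).1 hρz
    refine ⟨V, e, m, hpV, fun N hN => ?_⟩
    rw [IdealSheafData.ideal_mul, IdealSheafData.ideal_pow, Pi.mul_apply, Pi.pow_apply, hV,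
      Ideal.span_singleton_pow]
    have : φ (x * a ^ (N - n)) = (t ^ m * z * t ^ (N - n - m)) * φ c₀ ^ N := by
      rw [map_mul, map_pow, ← hz, ← ht, mul_pow]
      obtain ⟨k, rfl⟩ : ∃ k, N = n + m + k := ⟨N - (n + m), by omega⟩
      rw [show n + m + k - n = m + k by omega, show m + k - m = k by omega]
      ring
    show φ _ ∈ _
    rw [this]
    exact Ideal.mul_mem_mul (Ideal.mul_mem_right _ _ hm) (Ideal.mem_span_singleton_self _)
  choose V e m hpV hV using key
  have hc' : IsCompact ((b ⁻¹ᵁ W.1 : X'.Opens) : Set X') :=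
    b.isCompact_preimage W.2.isCompact
  obtain ⟨t, ht⟩ := hc'.elim_finite_subcover
    (fun p : (b ⁻¹ᵁ W.1 : X'.Opens) => ((V p.1 p.2).1 : Set X')) (fun p => (V p.1 p.2).1.2)
    (fun p hp => Set.mem_iUnion.2 ⟨⟨p, hp⟩, hpV p hp⟩)
  refine ⟨n + t.sup (fun p => m p.1 p.2), fun N hN => ⟨x * a ^ (N - n), ?_, ?_⟩⟩
  · refine mem_map_ideal b _ W _ fun p hp => ?_
    obtain ⟨q, hq, hpq⟩ := Set.mem_iUnion₂.1 (ht hp)
    exact ⟨_, e q.1 q.2, hpq, hV q.1 q.2 N
      (le_trans (Nat.add_le_add_left (Finset.le_sup (f := fun p => m p.1 p.2) hq) n) hN)⟩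
  · rw [map_mul, map_pow, ← hgx, mul_assoc, ← pow_add]
    congr 2
    omega

/-- Comparison of two ideals on a chart. -/
theorem chart_le (W : X.affineOpens) {B : Type u} [CommRing B] (α : Γ(X, W.1) →+* B) (a : Γ(X, W.1))
    (hI : (I.ideal W).map α = Ideal.span {α a}) (c : Spec (CommRingCat.of B) ⟶ X')
    (hc : c ≫ b = Spec.map (CommRingCat.ofHom α) ≫ W.2.fromSpec) (Jc : Ideal B)
    (hJc : J.comap c = centre Jc) (N : ℕ) (K : X.IdealSheafData)
    (h : Jc * Ideal.span {α a ^ N} ≤ (K.ideal W).map α) :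
    (J * I.comap b ^ N).comap c ≤ (K.comap b).comap c := by
  rw [ModPairLib.ideal_comap_mul, FComplLib.comap_pow, ← IdealSheafData.comap_comp,
    ← IdealSheafData.comap_comp, hc, IdealSheafData.comap_comp, IdealSheafData.comap_comp,
    comap_fromSpec, comap_fromSpec, ExcSmooth.comap_centre, ExcSmooth.comap_centre, hI, hJc]
  refine IdealSheafData.le_of_isAffine ?_
  rw [IdealSheafData.ideal_mul, IdealSheafData.ideal_pow, Pi.mul_apply, Pi.pow_apply, centre_top,
    centre_top, centre_top, ← Ideal.map_pow, ← Ideal.map_mul, Ideal.span_singleton_pow]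
  exact Ideal.map_mono h

/-- An ideal of finite type on a blow-up, times a high power of the exceptional divisor, is the
inverse image of an ideal of finite type on the base. -/
theorem exists_comap_eq_mul_pow [CompactSpace X] [QuasiSeparatedSpace X]
    (hI : BlowUp.IsFiniteTypeIdeal I) (hb : BlowUp.IsBlowUp b I) (hJ : BlowUp.IsFiniteTypeIdeal J) :
    ∃ (N : ℕ) (K : X.IdealSheafData), BlowUp.IsFiniteTypeIdeal K ∧
      K.comap b = J * I.comap b ^ N := by
  classical
  have := isProper_of_isBlowUp I hb hI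
  haveI : CompactSpace X' := QuasiCompact.compactSpace_of_compactSpace b
  choose U W hW a ha c hco hx hc using fun x => CartierFP.exists_chart_nhd (𝟙 X) I b hb x
  haveI := hco
  obtain ⟨s, hs⟩ := isCompact_univ.elim_finite_subcover
    (fun x : X' => ((@Scheme.Hom.opensRange _ _ (c x) (hco x) : X'.Opens) : Set X'))
    (fun x => (@Scheme.Hom.opensRange _ _ (c x) (hco x)).2) (fun x _ => Set.mem_iUnion.2 ⟨x, hx x⟩)
  let B := fun x : X' => BlowUp.affineAlgebra Γ(X, (W x).1) (I.ideal (W x)) (a x)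
  let ε := fun x : X' => (Scheme.ΓSpecIso (CommRingCat.of (B x))).inv.hom
  let Jc : ∀ x : X', Ideal (B x) := fun x =>
    ((J.comap (c x)).ideal ⟨⊤, isAffineOpen_top _⟩).comap (ε x)
  have hεs : ∀ x, Function.Bijective (ε x) := fun x => ConcreteCategory.bijective_of_isIso _
  have hJc : ∀ x, J.comap (c x) = centre (Jc x) := fun x => by
    refine IdealSheafData.ext_of_isAffine ?_
    rw [centre_top, Ideal.map_comap_of_surjective _ (hεs x).2]
  have hfg : ∀ x, (Jc x).FG := fun x => by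
    have h := MorLib.IdealFG.isFG_comap hJ (c x) ⟨⊤, isAffineOpen_top _⟩
    have e : Jc x = ((J.comap (c x)).ideal ⟨⊤, isAffineOpen_top _⟩).map
        (RingEquiv.ofBijective _ (hεs x)).symm.toRingHom :=
      (Ideal.map_symm (RingEquiv.ofBijective _ (hεs x))).symm
    rw [e]
    exact h.map _
  choose G hG using hfg
  have hn : ∀ x, ∀ g : G x, ∃ n : ℕ, ∀ N, n ≤ N →
      ∃ y ∈ ((J * I.comap b ^ N).map b).ideal (W x),
        algebraMap Γ(X, (W x).1) (B x) y = g.1 * algebraMap Γ(X, (W x).1) (B x) (a x) ^ N :=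
    fun x g => @chart_gen _ _ b I J hb inferInstance (W x) (a x) (ha x) (c x) (hco x) (hc x) (Jc x)
      (hJc x) g.1 (hG x ▸ Ideal.subset_span g.2)
  choose n hn using hn
  let N := s.sup fun x => (Finset.univ : Finset (G x)).sup (n x)
  have hy : ∀ x ∈ s, ∀ g : G x, ∃ y ∈ ((J * I.comap b ^ N).map b).ideal (W x),
      algebraMap Γ(X, (W x).1) (B x) y = g.1 * algebraMap Γ(X, (W x).1) (B x) (a x) ^ N :=
    fun x hx g => hn x g N ((Finset.le_sup (f := n x) (Finset.mem_univ g)).trans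
      (Finset.le_sup (f := fun x => (Finset.univ : Finset (G x)).sup (n x)) hx))
  choose y hyL hy using hy
  choose K hKL hKfg hKy using fun x : s => MorLib.IdealFG.exists_fg_le ((J * I.comap b ^ N).map b)
    (W x.1) (Ideal.span (Set.range (y x.1 x.2)))
    (Submodule.fg_span (Set.finite_range _))
    (Ideal.span_le.2 (Set.range_subset_iff.2 (hyL x.1 x.2)))
  let K₀ : X.IdealSheafData := ⨆ x : s, K x
  have hK₀ : BlowUp.IsFiniteTypeIdeal K₀ := by
    have : ∀ t : Finset s, MorLib.IdealFG.IsFG (⨆ i ∈ t, K i) := fun t => by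
      induction t using Finset.induction_on with
      | empty => simpa using MorLib.IdealFG.isFG_bot
      | insert a t _ ih => rw [Finset.iSup_insert]; exact MorLib.IdealFG.isFG_sup (hKfg a) ih
    have h := this Finset.univ
    simp only [Finset.mem_univ, iSup_pos] at h
    exact h
  refine ⟨N, K₀, hK₀, le_antisymm (IdealSheafData.le_map_iff_comap_le.1 (iSup_le hKL)) ?_⟩
  refine ModPairLib.le_of_comap_le (fun x : s => c x.1) (fun z => ?_) fun x => ?_
  · obtain ⟨x, hxs, w, hw⟩ := Set.mem_iUnion₂.1 (hs (Set.mem_univ z))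
    exact ⟨⟨x, hxs⟩, w, hw⟩
  haveI := hco x.1
  let α := algebraMap Γ(X, (W x.1).1) (B x.1)
  have hI' : (I.ideal (W x.1)).map α = Ideal.span {α (a x.1)} :=
    le_antisymm (Ideal.map_le_iff_le_comap.2 fun z hz => Ideal.mem_span_singleton'.2
        ⟨frac (I.ideal (W x.1)) ⟨z, hz⟩ ⟨a x.1, ha x.1⟩, frac_mul _ ⟨z, hz⟩ ⟨a x.1, ha x.1⟩⟩)
      ((Ideal.span_singleton_le_iff_mem _).2 (Ideal.mem_map_of_mem _ (ha x.1)))
  refine chart_le b I J (W x.1) α (a x.1) hI' (c x.1) (hc x.1) (Jc x.1) (hJc x.1) N K₀ ?_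
  rw [← hG x.1, Ideal.span_mul_span', Ideal.span_le]
  rintro _ ⟨g, hg, _, rfl, rfl⟩
  show g * α (a x.1) ^ N ∈ (K₀.ideal (W x.1)).map α
  rw [← hy x.1 x.2 ⟨g, hg⟩]
  refine Ideal.mem_map_of_mem _ ?_
  exact (le_iSup K x : K x ≤ K₀) (W x.1) (hKy x (Ideal.subset_span ⟨⟨g, hg⟩, rfl⟩))

end Groth.Agent.BlowSep.Compose
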