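import Groth.Agent.BlowSep.Basic

/-!
# Extending ideals of finite type
-/

universe u

set_option autoImplicit false

open CategoryTheory AlgebraicGeometry TopologicalSpace
open Scheme (IdealSheafData)

namespace Groth.Agent.BlowSep

variable {X : Scheme.{u}}

/-- An ideal which is of finite type on a quasi-compact open contains an ideal of finite type agreeing
with it there. -/
theorem exists_ft_eq_on [CompactSpace X] [QuasiSeparatedSpace X] (J : X.IdealSheafData) (O : X.Opens)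
    (hO : IsCompact (O : Set X)) (hJ : MorLib.IdealFG.FGOn J O) :
    ∃ I : X.IdealSheafData, I ≤ J ∧ BlowUp.IsFiniteTypeIdeal I ∧ I.comap O.ι = J.comap O.ι := by
  classical
  obtain ⟨s, hs, hOs⟩ := isCompact_iff_finite_and_eq_biUnion_affineOpens.1 hO
  have key : ∀ t : Finset X.affineOpens, (∀ U ∈ t, U.1 ≤ O) →
      ∃ I : X.IdealSheafData, I ≤ J ∧ MorLib.IdealFG.IsFG I ∧ ∀ U ∈ t, J.ideal U ≤ I.ideal U := by
    intro t
    induction t using Finset.induction_on with
    | empty => exact fun _ => ⟨⊥, bot_le, MorLib.IdealFG.isFG_bot, by simp⟩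
    | insert U t _ ih =>
      intro ht
      obtain ⟨I, hI, hIfg, hIt⟩ := ih fun V hV => ht V (Finset.mem_insert_of_mem hV)
      obtain ⟨K, hK, hKfg, hKU⟩ := MorLib.IdealFG.exists_fg_le J U (J.ideal U)
        (hJ U (ht U (Finset.mem_insert_self _ _))) le_rfl
      refine ⟨I ⊔ K, sup_le hI hK, MorLib.IdealFG.isFG_sup hIfg hKfg, fun V hV => ?_⟩
      rw [IdealSheafData.ideal_sup, Pi.sup_apply]
      rcases Finset.mem_insert.1 hV with rfl | hV
      · exact hKU.trans le_sup_right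
      · exact (hIt V hV).trans le_sup_left
  have hle : ∀ U ∈ hs.toFinset, U.1 ≤ O := fun U hU => by
    rw [hOs]
    exact le_iSup₂ (f := fun (U : X.affineOpens) (_ : U ∈ s) => U.1) U (hs.mem_toFinset.1 hU)
  obtain ⟨I, hI, hIfg, hIs⟩ := key hs.toFinset hle
  refine ⟨I, hI, hIfg, le_antisymm (IdealSheafData.comap_mono O.ι hI) ?_⟩
  let E : hs.toFinset → (O : Scheme.{u}).affineOpens := fun r => ⟨O.ι ⁻¹ᵁ r.1.1, by
    show IsAffineOpen _
    rw [← Scheme.Hom.isAffineOpen_iff_of_isOpenImmersion O.ι,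
      Scheme.Hom.image_preimage_eq_opensRange_inf, Scheme.Opens.opensRange_ι,
      inf_eq_right.mpr (hle r.1 r.2)]
    exact r.1.2⟩
  refine IdealSheafData.le_of_iSup_eq_top E ?_ fun r => ?_
  · refine top_le_iff.mp fun x _ => ?_
    have : O.ι x ∈ O := x.2
    conv at this => arg 1; rw [hOs]
    obtain ⟨U, hx⟩ := Opens.mem_iSup.1 this
    obtain ⟨hU, hxU⟩ := Opens.mem_iSup.1 hx
    exact Opens.mem_iSup.2 ⟨⟨U, hs.mem_toFinset.2 hU⟩, hxU⟩
  · refine MorLib.IdealFG.comap_le_at (U := r.1) (hIs r.1 r.2) _ ?_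
    show O.ι ''ᵁ O.ι ⁻¹ᵁ r.1.1 = r.1.1
    rw [Scheme.Hom.image_preimage_eq_opensRange_inf, Scheme.Opens.opensRange_ι,
      inf_eq_right.mpr (hle r.1 r.2)]

end Groth.Agent.BlowSep
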