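import Groth.Agent.BlowSep.Basic
import Mathlib.RingTheory.Nakayama
import Mathlib.RingTheory.Ideal.Quotient.Operations

/-!
# Separation after blowing up several schemes
-/

universe u

set_option autoImplicit false

open CategoryTheory AlgebraicGeometry TopologicalSpace
open Scheme (IdealSheafData)

namespace Groth.Agent.BlowSep

theorem notMem_basicOpen_of_colon {X : Scheme.{u}} {P E : X.IdealSheafData} {W : X.affineOpens}
    {t : Γ(X, W.1)} (ht : E.ideal W = Ideal.span {t}) {F : Set X} (hF : F ⊆ P.support)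
    (hFE : Disjoint F (E.support : Set X)) {y : X} (hy : y ∈ closure F) {c : Γ(X, W.1)}
    (hc : c * t ∈ P.ideal W) : y ∉ X.basicOpen c := fun hyc => by
  obtain ⟨w, hwc, hwF⟩ := mem_closure_iff.1 hy _ (X.basicOpen c).isOpen hyc
  have hwW : w ∈ W.1 := X.basicOpen_le c hwc
  have hwt : w ∈ X.basicOpen t := by
    by_contra hne
    refine Set.disjoint_left.1 hFE hwF ((mem_support_iff_notMem E hwW).2 fun f hf => ?_)
    obtain ⟨a, rfl⟩ := Ideal.mem_span_singleton'.1 (ht ▸ hf)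
    rw [Scheme.basicOpen_mul]
    exact fun hw => hne hw.2
  refine (mem_support_iff_notMem P hwW).1 (hF hwF) (c * t) hc ?_
  rw [Scheme.basicOpen_mul]
  exact ⟨hwc, hwt⟩

/-- Finitely many separations at once. -/
theorem notMem_closure_multi {Z : Scheme.{u}} {ι : Type*} [Finite ι] (X : ι → Scheme.{u})
    (h : ∀ i, Z ⟶ X i) (P E : ∀ i, (X i).IdealSheafData) (hE : ∀ i, BlowUp.IsEffCartierIdeal (E i))
    (hP : ∀ i, P i ≤ E i) (K : Z.IdealSheafData) (F : ∀ i, Set (X i)) (G : Set Z)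
    (hF : ∀ i, F i ⊆ (P i).support) (hFE : ∀ i, Disjoint (F i) ((E i).support : Set (X i)))
    (hK : G ⊆ K.support) (hG : ∀ g ∈ G, ∃ i, h i g ∉ ((P i).support : Set (X i)))
    (hle : ∀ i, (E i).comap (h i) ≤ (⨆ j, (P j).comap (h j)) ⊔ K)
    {z : Z} (hzF : ∀ i, h i z ∈ closure (F i)) : z ∉ closure G := by
  classical
  intro hzG
  haveI := Fintype.ofFinite ι
  choose W hxW t _ ht using fun i => hE i (h i z)
  obtain ⟨W', hW', hzW', hsub⟩ := exists_isAffineOpen_mem_and_subset (x := z)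
    (U := ⟨⋂ i, (h i ⁻¹ᵁ (W i).1 : Set Z), isOpen_iInter_of_finite fun i => (h i ⁻¹ᵁ (W i).1).2⟩)
    (Set.mem_iInter.2 fun i => hxW i)
  have e : ∀ i, W' ≤ h i ⁻¹ᵁ (W i).1 := fun i a ha => Set.mem_iInter.1 (hsub ha) i
  let e' : ι → Γ(Z, W') := fun i => ((h i).appLE (W i).1 W' (e i)).hom (t i)
  let q := (hW'.primeIdealOf ⟨z, hzW'⟩).asIdeal
  let N₀ : Ideal Γ(Z, W') := Ideal.span (Set.range e')
  have hPN : ∀ i, ((P i).comap (h i)).ideal ⟨W', hW'⟩ ≤ q * N₀ := fun i => by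
    rw [ModPairLib.ideal_comap (P i) (h i) (W i) ⟨W', hW'⟩ (e i), Ideal.map_le_iff_le_comap]
    intro f hf
    obtain ⟨a, rfl⟩ := Ideal.mem_span_singleton'.1 (ht i ▸ hP i (W i) hf)
    rw [Ideal.mem_comap, map_mul]
    refine Ideal.mul_mem_mul ((prime_iff hW' hzW' _).2 ?_) (Ideal.subset_span ⟨i, rfl⟩)
    show z ∉ Z.basicOpen (((h i).appLE (W i).1 W' (e i)).hom a)
    rw [Scheme.basicOpen_appLE]
    exact fun hh => notMem_basicOpen_of_colon (ht i) (hF i) (hFE i) (hzF i) hf hh.2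
  have hN : N₀ ≤ q * N₀ ⊔ K.ideal ⟨W', hW'⟩ := by
    rw [Ideal.span_le]
    rintro _ ⟨i, rfl⟩
    have h1 : e' i ∈ ((E i).comap (h i)).ideal ⟨W', hW'⟩ := by
      rw [ModPairLib.ideal_comap (E i) (h i) (W i) ⟨W', hW'⟩ (e i), ht i]
      exact Ideal.mem_map_of_mem _ (Ideal.mem_span_singleton_self _)
    have h2 := hle i ⟨W', hW'⟩ h1
    rw [IdealSheafData.ideal_sup, Pi.sup_apply, IdealSheafData.ideal_iSup, iSup_apply] at h2
    exact (sup_le_sup_right (iSup_le hPN) (K.ideal ⟨W', hW'⟩) : _ ≤ _) h2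
  let mk := Ideal.Quotient.mk (K.ideal ⟨W', hW'⟩)
  have hN' : N₀.map mk ≤ (q.map mk) • N₀.map mk := by
    refine (Ideal.map_mono hN).trans ?_
    rw [Ideal.map_sup, Ideal.map_mul, Ideal.map_quotient_self, sup_bot_eq]
    exact le_rfl
  let R := Γ(Z, W') ⧸ K.ideal ⟨W', hW'⟩
  have hfg : (N₀.map mk : Ideal R).FG := Ideal.FG.map (I := N₀) (Submodule.fg_span (Set.finite_range e')) mk
  obtain ⟨r, hr, hr0⟩ := Submodule.exists_sub_one_mem_and_smul_eq_zero_of_fg_of_le_smul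
    (R := R) (M := R) (q.map mk) (N₀.map mk) hfg hN'
  obtain ⟨r, rfl⟩ := Ideal.Quotient.mk_surjective r
  have hKq : K.ideal ⟨W', hW'⟩ ≤ q :=
    (mem_support_iff_le_prime K (U := ⟨W', hW'⟩) hzW').1 ((closure_minimal hK K.support.isClosed) hzG)
  have hrq : r ∉ q := fun hmem => by
    have h1 : r - 1 ∈ q := by
      have h2 : mk (r - 1) ∈ q.map mk := by rw [map_sub, map_one]; exact hr
      rw [← Ideal.mem_comap, Ideal.comap_map_mk hKq] at h2
      exact h2
    exact (hW'.primeIdealOf ⟨z, hzW'⟩).isPrime.ne_top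
      ((Ideal.eq_top_iff_one _).2 (by simpa using q.sub_mem hmem h1))
  obtain ⟨g, hgr, hgG⟩ := mem_closure_iff.1 hzG _ (Z.basicOpen r).isOpen
    (by by_contra hne; exact hrq ((prime_iff hW' hzW' r).2 hne))
  obtain ⟨i, hi⟩ := hG g hgG
  have hgW' : g ∈ W' := Z.basicOpen_le _ hgr
  refine (mem_support_iff_notMem K (U := ⟨W', hW'⟩) hgW').1 (hK hgG) (r * e' i) ?_ ?_
  · rw [← Ideal.Quotient.eq_zero_iff_mem, map_mul]
    exact hr0 (mk (e' i)) (Ideal.mem_map_of_mem mk (Ideal.subset_span ⟨i, rfl⟩))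
  · rw [Scheme.basicOpen_mul]
    refine ⟨hgr, ?_⟩
    show g ∈ Z.basicOpen (((h i).appLE (W i).1 W' (e i)).hom (t i))
    rw [Scheme.basicOpen_appLE]
    refine ⟨hgW', ?_⟩
    by_contra hne
    refine hi (IdealSheafData.support_antitone (hP i) ?_)
    refine (mem_support_iff_notMem (E i) (U := W i) (e i hgW')).2 fun f hf => ?_
    obtain ⟨a, rfl⟩ := Ideal.mem_span_singleton'.1 (ht i ▸ hf)
    rw [Scheme.basicOpen_mul]
    exact fun hw => hne hw.2

end Groth.Agent.BlowSep
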